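import Cfsg.Agent.Lib.PresCert.PairedBound

/-!
# The letters of the enumerations (generated): 0 a, 1 c, 2 d, 3 e, 4 u, 5 inverse of u, 6 h, 7 inverse of h
-/

set_option autoImplicit false
set_option maxRecDepth 100000

namespace CfsgLib.ThType.Cert

/-- The inverse letters. -/
def ivL (g : ℕ) : ℕ := [0, 1, 2, 3, 5, 4, 7, 6].getD g g

/-- Words. -/
def commonRels : List (List ℕ) :=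
  [[0, 3, 0, 3],
    [0, 2, 1, 2, 1, 2, 1, 2, 1],
    [1, 3, 1, 3],
    [2, 3, 2, 3, 2, 3],
    [4, 4, 1, 0],
    [5, 0, 4, 0],
    [5, 1, 4, 1],
    [5, 3, 4, 3],
    [2, 3, 5, 2, 4, 2, 3, 5, 2, 4],
    [6, 6, 6],
    [7, 0, 6, 1],
    [7, 1, 6, 0, 1],
    [7, 3, 6, 5, 2, 1, 2, 4, 2, 1, 2],
    [7, 4, 6, 4, 2, 3, 1, 2, 1, 2, 3, 2],
    [6, 2, 7, 2, 7, 3, 6, 2, 6, 2, 7, 3],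
    [2, 1, 2, 6, 2, 1, 2, 6],
    [0, 0],
    [1, 1],
    [2, 2],
    [3, 3]]

/-- Words. -/
def subWords : List (List ℕ) :=
  [[0],
    [1],
    [2],
    [3],
    [4]]

/-- Words. -/
def targetRels : List (List ℕ) :=
  [[],
    [],
    [],
    [],
    [],
    [0, 6, 2, 6, 2, 7, 0, 6, 2, 7, 2, 7, 0, 6, 2, 6, 2, 7, 0, 6, 2, 7, 2, 7, 0, 6, 2, 6, 2, 7, 0, 6,
      2, 7, 2, 7],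
    [0, 3, 0, 3],
    [6, 2, 6, 2, 7, 0, 6, 2, 7, 2, 7, 1, 6, 2, 6, 2, 7, 0, 6, 2, 7, 2, 7, 1, 6, 2, 6, 2, 7, 0, 6, 2,
      7, 2, 7, 1],
    [6, 2, 6, 2, 7, 0, 6, 2, 7, 2, 7, 2, 6, 2, 6, 2, 7, 0, 6, 2, 7, 2, 7, 2],
    [6, 2, 6, 2, 7, 0, 6, 2, 7, 2, 7, 3, 6, 2, 6, 2, 7, 0, 6, 2, 7, 2, 7, 3],
    [0, 2, 1, 2, 1, 2, 1, 2, 1],
    [1, 3, 1, 3],
    [2, 3, 2, 3, 2, 3],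
    [6, 2, 6, 2, 7, 0, 6, 2, 7, 2, 7, 1, 2, 3, 6, 2, 6, 2, 7, 0, 6, 2, 7, 2, 7, 1, 2, 3, 6, 2, 6, 2,
      7, 0, 6, 2, 7, 2, 7, 1, 2, 3, 6, 2, 6, 2, 7, 0, 6, 2, 7, 2, 7, 1, 2, 3, 6, 2, 6, 2, 7, 0, 6, 2,
      7, 2, 7, 1, 2, 3, 6, 2, 6, 2, 7, 0, 6, 2, 7, 2, 7, 1, 2, 3, 6, 2, 6, 2, 7, 0, 6, 2, 7, 2, 7, 1,
      2, 3, 6, 2, 6, 2, 7, 0, 6, 2, 7, 2, 7, 1, 2, 3],
    [4, 4, 1, 0],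
    [5, 0, 4, 0],
    [5, 1, 4, 1],
    [5, 3, 4, 3],
    [2, 3, 5, 2, 4, 2, 3, 5, 2, 4],
    [5, 6, 2, 6, 2, 7, 0, 6, 2, 7, 2, 7, 1, 0, 6, 2, 6, 2, 7, 0, 6, 2, 7, 2, 7, 4, 6, 2, 6, 2, 7, 0,
      6, 2, 7, 2, 7, 0, 1, 6, 2, 6, 2, 7, 0, 6, 2, 7, 2, 7, 3],
    [2, 5, 2, 6, 2, 6, 2, 7, 0, 6, 2, 7, 2, 7, 1, 0, 6, 2, 6, 2, 7, 0, 6, 2, 7, 2, 7, 2, 4, 2, 6, 2,
      6, 2, 7, 0, 6, 2, 7, 2, 7, 0, 1, 6, 2, 6, 2, 7, 0, 6, 2, 7, 2, 7, 1, 3, 2, 5, 2, 6, 2, 6, 2, 7,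
      0, 6, 2, 7, 2, 7, 1, 0, 6, 2, 6, 2, 7, 0, 6, 2, 7, 2, 7, 3, 5]]

/-- Words. -/
def relR0 : List (List ℕ) :=
  [[0, 6, 2, 4, 2, 6, 6, 3, 2, 5, 2, 0, 7, 5, 2, 5, 2]]

/-- Words. -/
def wordB : List (List ℕ) :=
  [[6, 2, 6, 2, 7, 0, 6, 2, 7, 2, 7]]

end CfsgLib.ThType.Cert
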