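import Cfsg.Agent.Lib.ThType.Cert.Sound
import Cfsg.Agent.Lib.ThType.Cert.Words

/-!
# The group generated by the centraliser part and the element of order three

The eight letters stand for a, c, d, e, u, u⁻¹, h, h⁻¹. A checked collapse excludes the extra
relators, and a word fixing all cosets of a closed table is trivial.
-/

set_option autoImplicit false

namespace CfsgLib.ThType.Cert

open CfsgLib.PresCert Subgroup

variable {G : Type*} [Group G]

/-- The subgroup of the letters a, c, d, e, u. -/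
def kSub (x : ℕ → G) : Subgroup G := closure (Set.range fun g : Fin 5 => x g)

/-- The hypotheses on the eight elements. -/
structure Setup (x : ℕ → G) : Prop where
  inv : ∀ g, g < 8 → x (ivL g) = (x g)⁻¹
  rel : ∀ w ∈ commonRels, wval x w = 1
  c_ne : x 1 ≠ 1
  ne : x 0 ≠ x 1
  cen : ∀ g, g < 5 → x g * x 0 = x 0 * x g
  small : ∀ g ∈ kSub x, (∀ y ∈ kSub x, g * (y * x 1 * y⁻¹) = (y * x 1 * y⁻¹) * g) → g = 1 ∨ g = x 0

theorem words_facts : commonRels.contains [7, 0, 6, 1] = true ∧ commonRels.contains [0, 0] = true ∧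
    commonRels.contains [1, 1] = true ∧ (subWords.all fun w => [[0], [1], [2], [3], [4]].contains w) = true := by
  decide +kernel

variable {x : ℕ → G}

theorem Setup.conj_h (S : Setup x) : (x 6)⁻¹ * x 0 * x 6 = x 1 := by
  have h := S.rel _ (List.contains_iff_mem.1 words_facts.1)
  have hc := S.rel _ (List.contains_iff_mem.1 words_facts.2.2.1)
  simp only [wval, List.map_cons, List.map_nil, List.prod_cons, List.prod_nil, mul_one] at h hc
  have h7 : x 7 = (x 6)⁻¹ := S.inv 6 (by norm_num)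
  rw [h7] at h
  calc (x 6)⁻¹ * x 0 * x 6 = (x 6)⁻¹ * (x 0 * (x 6 * x 1)) * (x 1)⁻¹ := by group
    _ = (x 1)⁻¹ := by rw [h, one_mul]
    _ = x 1 := inv_eq_of_mul_eq_one_right hc

theorem Setup.mem_kSub (g : ℕ) (hg : g < 5) : x g ∈ kSub x :=
  subset_closure ⟨⟨g, hg⟩, rfl⟩

theorem Setup.k_le (S : Setup x) : kSub x ≤ centralizer ({x 0} : Set G) := by
  refine (closure_le _).2 ?_
  rintro _ ⟨g, rfl⟩
  exact mem_centralizer_singleton_iff.2 (S.cen g g.2)

theorem Setup.gen_inv (S : Setup x) : ∀ g, g < 8 → (x g)⁻¹ * (x (ivL g))⁻¹ = 1 := by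
  intro g hg
  rw [S.inv g hg, inv_inv, inv_mul_cancel]

theorem Setup.pairHyp (S : Setup x) {D : Data} (hng : D.ng = 8) {rels : List (List ℕ)}
    (hrels : ∀ w ∈ rels, wval x w = 1) {hints : List (ℕ × ℕ × Bool)}
    (h1 : Paired.hintsOk D ivL rels hints = true) (h2 : Y555.marksOk D subWords = true) :
    Paired.PairHyp D ivL (fun g => (x g)⁻¹) ((1 : G) : G ⧸ kSub x) := by
  refine Paired.pairHyp_of_hints (fun g hg => S.gen_inv g (hng ▸ hg))
    (fun w hw => by rw [act_inv, hrels w hw, inv_one]) (fun w hw => ?_) h1 h2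
  have hw' := List.all_eq_true.1 words_facts.2.2.2 w hw
  rw [act_inv, MulAction.Quotient.smul_coe, smul_eq_mul, mul_one, QuotientGroup.eq, inv_inv, mul_one]
  simp only [List.contains_iff_mem, List.mem_cons, List.not_mem_nil, or_false] at hw'
  rcases hw' with rfl | rfl | rfl | rfl | rfl <;>
    simp only [wval, List.map_cons, List.map_nil, List.prod_cons, List.prod_nil, mul_one]
  all_goals exact Setup.mem_kSub _ (by norm_num)

/-- A certificate with a single coset refutes the relators. -/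
theorem Setup.collapse (S : Setup x) {D : Data} (hng : D.ng = 8) (V : Paired.Valid D ivL)
    {rels : List (List ℕ)} {hints : List (ℕ × ℕ × Bool)}
    (h1 : Paired.hintsOk D ivL rels hints = true) (h2 : Y555.marksOk D subWords = true)
    (hgoal : endsAt D (D.rm - 1) (walk D (D.rm - 1) 0 [6]) 0 = true)
    (hrels : ∀ w ∈ rels, wval x w = 1) : False := by
  have H := S.pairHyp hng hrels h1 h2
  have h := Paired.word_fix V H (w := [6]) (fun g hg => by simp at hg; omega) hgoal
  rw [act_cons, act_nil, one_mul, MulAction.Quotient.smul_coe, smul_eq_mul, mul_one, QuotientGroup.eq,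
    inv_inv, mul_one] at h
  have hc := mem_centralizer_singleton_iff.1 (S.k_le h)
  apply S.ne
  calc x 0 = (x 6)⁻¹ * (x 6 * x 0) := by group
    _ = (x 6)⁻¹ * x 0 * x 6 := by rw [hc]; group
    _ = x 1 := S.conj_h

/-- A word fixing every coset of a closed enumeration is trivial. -/
theorem Setup.trivial_of_fixes (S : Setup x) {D : Data} (hng : D.ng = 8)
    (V : Paired.Closed D ivL (letters D)) {rels : List (List ℕ)} {hints : List (ℕ × ℕ × Bool)}
    (h1 : Paired.hintsOk D ivL rels hints = true) (h2 : Y555.marksOk D subWords = true)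
    (hrels : ∀ w ∈ rels, wval x w = 1) {T : List (List ℕ)} {B : List ℕ} {W : List (List ℕ)}
    (hs : ∀ b, 250 * b < D.n → stepsBlock D T b = true) (hx : ∀ b, 250 * b < D.n → extraBlock D T B b = true)
    (hBw : ∀ g ∈ B, g < 8) (hfix : ∀ b, 250 * b < D.n → fixesBlock D.n T W b = true)
    (hW : ∀ v ∈ W, ∀ g ∈ v, g ≤ 8) {w : List ℕ} (hw : w ∈ W) :
    wval x (expandW 8 B w) = 1 := by
  have H := S.pairHyp hng hrels h1 h2
  set K := kSub x with hK
  set N := genGrp (letters D) (fun g => (x g)⁻¹) with hN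
  have hmemN : ∀ g, g < 8 → x g ∈ N := by
    intro g hg
    have : (x g)⁻¹ ∈ N := subset_closure ⟨[g], List.mem_map.2 ⟨g, List.mem_range.2 (hng ▸ hg), rfl⟩,
      by rw [act_cons, act_nil, one_mul]⟩
    simpa using inv_mem this
  have hKN : K ≤ N := (closure_le _).2 (by
    rintro _ ⟨g, rfl⟩
    exact hmemN g (by have := g.2; omega))
  -- the elements all whose conjugates lie in the subgroup
  have hcore : ∀ m ∈ N, m⁻¹ * wval x (expandW 8 B w) * m ∈ K := by
    intro m hm
    have h := fixes_orbit V H hs hx (hng.symm ▸ hBw) hfix hw (hng.symm ▸ hW w hw) hm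
    rw [hng] at h
    rw [MulAction.Quotient.smul_coe, smul_eq_mul, mul_one, act_inv, MulAction.Quotient.smul_coe,
      smul_eq_mul, QuotientGroup.eq] at h
    simpa [mul_assoc] using h
  have key : ∀ v : G, (∀ m ∈ N, m⁻¹ * v * m ∈ K) → v = 1 ∨ v = x 0 := by
    intro v hv
    refine S.small v (by simpa using hv 1 (one_mem N)) fun y hy => ?_
    have hh := hv (y * (x 6)⁻¹) (mul_mem (hKN hy) (inv_mem (hmemN 6 (by norm_num))))
    have hc := mem_centralizer_singleton_iff.1 (S.k_le hh)
    rw [← S.conj_h]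
    calc v * (y * ((x 6)⁻¹ * x 0 * x 6) * y⁻¹)
        = (y * (x 6)⁻¹) * (((y * (x 6)⁻¹)⁻¹ * v * (y * (x 6)⁻¹)) * x 0) * (x 6 * y⁻¹) := by group
      _ = (y * (x 6)⁻¹) * (x 0 * ((y * (x 6)⁻¹)⁻¹ * v * (y * (x 6)⁻¹))) * (x 6 * y⁻¹) := by rw [hc]
      _ = (y * ((x 6)⁻¹ * x 0 * x 6) * y⁻¹) * v := by group
  rcases key _ hcore with h | h
  · exact h
  · exfalso
    have h6 : ∀ m ∈ N, m⁻¹ * x 1 * m ∈ K := by
      intro m hm
      have := hcore (x 6 * m) (mul_mem (hmemN 6 (by norm_num)) hm)
      rw [h] at this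
      rw [← S.conj_h]
      simpa [mul_assoc] using this
    rcases key _ h6 with e | e
    · exact S.c_ne e
    · exact S.ne e.symm

end CfsgLib.ThType.Cert
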