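import Cfsg.Agent.Lib.ThType.Cert.CollapseData
import Cfsg.Agent.Lib.ThType.Cert.Amalgam

/-!
# Kernel checks of the enumerations with one coset
-/

set_option autoImplicit false
set_option maxRecDepth 100000

namespace CfsgLib.ThType.Cert

open CfsgLib.PresCert

/-- The extra relators of a certificate are refuted. -/
def Refutes (D : Data) (rels : List (List ℕ)) : Prop :=
  D.ng = 8 ∧ Paired.Valid D ivL ∧ (∃ hints, Paired.hintsOk D ivL rels hints = true) ∧
    Y555.marksOk D subWords = true ∧ endsAt D (D.rm - 1) (walk D (D.rm - 1) 0 [6]) 0 = true

theorem Setup.refute {G : Type*} [Group G] {x : ℕ → G} (S : Setup x) {D : Data} {extra : List (List ℕ)}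
    (h : Refutes D (commonRels ++ extra)) (he : ∀ w ∈ extra, wval x w = 1) : False := by
  obtain ⟨h0, hV, ⟨hints, h1⟩, h2, h3⟩ := h
  refine S.collapse h0 hV h1 h2 h3 fun w hw => ?_
  rcases List.mem_append.1 hw with hw | hw
  exacts [S.rel w hw, he w hw]

theorem certJ1_block0 : Paired.block certJ1 ivL 0 = true := by decide +kernel

theorem refutesJ1 : Refutes certJ1 certJ1Rels := by
  refine ⟨rfl, ⟨by decide +kernel, fun b hb => ?_⟩, ⟨certJ1Hints, by decide +kernel⟩, by decide +kernel,
    by decide +kernel⟩
  have hN : certJ1.N = 114 := rfl
  have : b < 1 := by omega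
  interval_cases b
  exact certJ1_block0

theorem certJ2_block0 : Paired.block certJ2 ivL 0 = true := by decide +kernel

theorem refutesJ2 : Refutes certJ2 certJ2Rels := by
  refine ⟨rfl, ⟨by decide +kernel, fun b hb => ?_⟩, ⟨certJ2Hints, by decide +kernel⟩, by decide +kernel,
    by decide +kernel⟩
  have hN : certJ2.N = 114 := rfl
  have : b < 1 := by omega
  interval_cases b
  exact certJ2_block0

theorem certJ3_block0 : Paired.block certJ3 ivL 0 = true := by decide +kernel

theorem refutesJ3 : Refutes certJ3 certJ3Rels := by
  refine ⟨rfl, ⟨by decide +kernel, fun b hb => ?_⟩, ⟨certJ3Hints, by decide +kernel⟩, by decide +kernel,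
    by decide +kernel⟩
  have hN : certJ3.N = 114 := rfl
  have : b < 1 := by omega
  interval_cases b
  exact certJ3_block0

theorem certJ4_block0 : Paired.block certJ4 ivL 0 = true := by decide +kernel

theorem refutesJ4 : Refutes certJ4 certJ4Rels := by
  refine ⟨rfl, ⟨by decide +kernel, fun b hb => ?_⟩, ⟨certJ4Hints, by decide +kernel⟩, by decide +kernel,
    by decide +kernel⟩
  have hN : certJ4.N = 342 := rfl
  have : b < 1 := by omega
  interval_cases b
  exact certJ4_block0

theorem certJ5_block0 : Paired.block certJ5 ivL 0 = true := by decide +kernel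

theorem refutesJ5 : Refutes certJ5 certJ5Rels := by
  refine ⟨rfl, ⟨by decide +kernel, fun b hb => ?_⟩, ⟨certJ5Hints, by decide +kernel⟩, by decide +kernel,
    by decide +kernel⟩
  have hN : certJ5.N = 228 := rfl
  have : b < 1 := by omega
  interval_cases b
  exact certJ5_block0

theorem certK1_block0 : Paired.block certK1 ivL 0 = true := by decide +kernel

theorem refutesK1 : Refutes certK1 certK1Rels := by
  refine ⟨rfl, ⟨by decide +kernel, fun b hb => ?_⟩, ⟨certK1Hints, by decide +kernel⟩, by decide +kernel,
    by decide +kernel⟩
  have hN : certK1.N = 114 := rfl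
  have : b < 1 := by omega
  interval_cases b
  exact certK1_block0

theorem certK2_block0 : Paired.block certK2 ivL 0 = true := by decide +kernel

theorem refutesK2 : Refutes certK2 certK2Rels := by
  refine ⟨rfl, ⟨by decide +kernel, fun b hb => ?_⟩, ⟨certK2Hints, by decide +kernel⟩, by decide +kernel,
    by decide +kernel⟩
  have hN : certK2.N = 114 := rfl
  have : b < 1 := by omega
  interval_cases b
  exact certK2_block0

theorem certK4_block0 : Paired.block certK4 ivL 0 = true := by decide +kernel

theorem refutesK4 : Refutes certK4 certK4Rels := by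
  refine ⟨rfl, ⟨by decide +kernel, fun b hb => ?_⟩, ⟨certK4Hints, by decide +kernel⟩, by decide +kernel,
    by decide +kernel⟩
  have hN : certK4.N = 228 := rfl
  have : b < 1 := by omega
  interval_cases b
  exact certK4_block0

theorem certK5_block0 : Paired.block certK5 ivL 0 = true := by decide +kernel

theorem certK5_block1 : Paired.block certK5 ivL 1 = true := by decide +kernel

theorem certK5_block2 : Paired.block certK5 ivL 2 = true := by decide +kernel

theorem refutesK5 : Refutes certK5 certK5Rels := by
  refine ⟨rfl, ⟨by decide +kernel, fun b hb => ?_⟩, ⟨certK5Hints, by decide +kernel⟩, by decide +kernel,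
    by decide +kernel⟩
  have hN : certK5.N = 2504 := rfl
  have : b < 3 := by omega
  interval_cases b
  exact certK5_block0
  exact certK5_block1
  exact certK5_block2

theorem certJ7K7_block0 : Paired.block certJ7K7 ivL 0 = true := by decide +kernel

theorem refutesJ7K7 : Refutes certJ7K7 certJ7K7Rels := by
  refine ⟨rfl, ⟨by decide +kernel, fun b hb => ?_⟩, ⟨certJ7K7Hints, by decide +kernel⟩, by decide +kernel,
    by decide +kernel⟩
  have hN : certJ7K7.N = 911 := rfl
  have : b < 1 := by omega
  interval_cases b
  exact certJ7K7_block0

theorem certZa_block0 : Paired.block certZa ivL 0 = true := by decide +kernel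

theorem refutesZa : Refutes certZa certZaRels := by
  refine ⟨rfl, ⟨by decide +kernel, fun b hb => ?_⟩, ⟨certZaHints, by decide +kernel⟩, by decide +kernel,
    by decide +kernel⟩
  have hN : certZa.N = 228 := rfl
  have : b < 1 := by omega
  interval_cases b
  exact certZa_block0

theorem certZc_block0 : Paired.block certZc ivL 0 = true := by decide +kernel

theorem refutesZc : Refutes certZc certZcRels := by
  refine ⟨rfl, ⟨by decide +kernel, fun b hb => ?_⟩, ⟨certZcHints, by decide +kernel⟩, by decide +kernel,
    by decide +kernel⟩
  have hN : certZc.N = 228 := rfl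
  have : b < 1 := by omega
  interval_cases b
  exact certZc_block0

theorem certZac_block0 : Paired.block certZac ivL 0 = true := by decide +kernel

theorem refutesZac : Refutes certZac certZacRels := by
  refine ⟨rfl, ⟨by decide +kernel, fun b hb => ?_⟩, ⟨certZacHints, by decide +kernel⟩, by decide +kernel,
    by decide +kernel⟩
  have hN : certZac.N = 228 := rfl
  have : b < 1 := by omega
  interval_cases b
  exact certZac_block0

theorem certZq_block0 : Paired.block certZq ivL 0 = true := by decide +kernel

theorem refutesZq : Refutes certZq certZqRels := by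
  refine ⟨rfl, ⟨by decide +kernel, fun b hb => ?_⟩, ⟨certZqHints, by decide +kernel⟩, by decide +kernel,
    by decide +kernel⟩
  have hN : certZq.N = 342 := rfl
  have : b < 1 := by omega
  interval_cases b
  exact certZq_block0

theorem certZaq_block0 : Paired.block certZaq ivL 0 = true := by decide +kernel

theorem refutesZaq : Refutes certZaq certZaqRels := by
  refine ⟨rfl, ⟨by decide +kernel, fun b hb => ?_⟩, ⟨certZaqHints, by decide +kernel⟩, by decide +kernel,
    by decide +kernel⟩
  have hN : certZaq.N = 228 := rfl
  have : b < 1 := by omega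
  interval_cases b
  exact certZaq_block0

theorem certZcq_block0 : Paired.block certZcq ivL 0 = true := by decide +kernel

theorem refutesZcq : Refutes certZcq certZcqRels := by
  refine ⟨rfl, ⟨by decide +kernel, fun b hb => ?_⟩, ⟨certZcqHints, by decide +kernel⟩, by decide +kernel,
    by decide +kernel⟩
  have hN : certZcq.N = 228 := rfl
  have : b < 1 := by omega
  interval_cases b
  exact certZcq_block0

theorem certZacq_block0 : Paired.block certZacq ivL 0 = true := by decide +kernel

theorem refutesZacq : Refutes certZacq certZacqRels := by
  refine ⟨rfl, ⟨by decide +kernel, fun b hb => ?_⟩, ⟨certZacqHints, by decide +kernel⟩, by decide +kernel,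
    by decide +kernel⟩
  have hN : certZacq.N = 228 := rfl
  have : b < 1 := by omega
  interval_cases b
  exact certZacq_block0

end CfsgLib.ThType.Cert
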