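import Cfsg.Agent.Lib.PresCert.PairedBound

/-!
# Words fixing every coset of a closed enumeration

A word whose rooted walks return to each live node lies in every conjugate, under the enumerated
group, of the subgroup.
-/

set_option autoImplicit false

namespace CfsgLib.ThType.Cert

open CfsgLib.PresCert

/-- A lookup in packed columns of width thirteen. -/
def tabAt (T : List (List ℕ)) (g i : ℕ) : ℕ :=
  Nat.land (Nat.shiftRight ((T.getD g []).getD (i / 256) 0) (13 * (i % 256))) 8191

/-- A walk in the packed table. -/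
def tabWalk (T : List (List ℕ)) : ℕ → List ℕ → ℕ
  | i, [] => i
  | i, g :: w => tabWalk T (tabAt T g i) w

/-- A test at the indices of a block of 250. -/
def allBlock (n : ℕ) (f : ℕ → Bool) (b : ℕ) : Bool :=
  (List.range 250).all fun j => !(Nat.blt (250 * b + j) n) || f (250 * b + j)

/-- The single steps of the table agree with the enumeration. -/
def stepsBlock (D : Data) (T : List (List ℕ)) (b : ℕ) : Bool :=
  allBlock D.n (fun i => (List.range D.ng).all fun g =>
      match step D (D.rm - 1) g fuel (liveAt D i) with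
      | some y => Nat.beq (root D (D.rm - 1) fuel y) (liveAt D (tabAt T g i)) && Nat.blt (tabAt T g i) D.n
      | none => false) b

/-- The column after the generators is the one of the word `B`. -/
def extraBlock (D : Data) (T : List (List ℕ)) (B : List ℕ) (b : ℕ) : Bool :=
  allBlock D.n (fun i => Nat.beq (tabAt T D.ng i) (tabWalk T i B)) b

/-- The words return to every point of a block. -/
def fixesBlock (n : ℕ) (T : List (List ℕ)) (W : List (List ℕ)) (b : ℕ) : Bool :=
  allBlock n (fun i => W.all fun w => Nat.beq (tabWalk T i w) i) b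

/-- The expansion of the extra letter. -/
def expandW (ng : ℕ) (B : List ℕ) (w : List ℕ) : List ℕ :=
  w.flatMap fun g => if g = ng then B else [g]

/-- The value of a word. -/
def wval {G : Type*} [Group G] (x : ℕ → G) (w : List ℕ) : G := (w.map x).prod

theorem wval_nil {G : Type*} [Group G] (x : ℕ → G) : wval x [] = 1 := rfl

theorem wval_cons {G : Type*} [Group G] (x : ℕ → G) (g : ℕ) (w : List ℕ) :
    wval x (g :: w) = x g * wval x w := by simp [wval]

theorem wval_append {G : Type*} [Group G] (x : ℕ → G) (u w : List ℕ) :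
    wval x (u ++ w) = wval x u * wval x w := by simp [wval]

theorem act_inv {G : Type*} [Group G] (x : ℕ → G) :
    ∀ w : List ℕ, act (fun g => (x g)⁻¹) w = (wval x w)⁻¹
  | [] => by simp [act_nil, wval_nil]
  | g :: w => by rw [act_cons, act_inv x w, wval_cons, mul_inv_rev]

section

variable {M X : Type*} [Group M] [MulAction M X] {gen : ℕ → M} {x₀ : X} {D : Data} {iv : ℕ → ℕ}

variable {T : List (List ℕ)} {B : List ℕ}

theorem blocks_spec {f : ℕ → Bool} {n : ℕ}
    (h : ∀ b, 250 * b < n → allBlock n f b = true)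
    {i : ℕ} (hi : i < n) : f i = true := by
  have hb := h (i / 250) (by omega)
  simp only [allBlock, List.all_eq_true, List.mem_range, Bool.or_eq_true, Bool.not_eq_true'] at hb
  have h' := hb (i % 250) (Nat.mod_lt _ (by norm_num))
  rw [Nat.div_add_mod] at h'
  exact h'.resolve_left fun e => by
    have : Nat.blt i n = true := by rw [Nat.blt_eq]; exact hi
    rw [this] at e
    exact Bool.noConfusion e

theorem step_tab (hB : Below D gen x₀ (D.rm - 1)) (hs : ∀ b, 250 * b < D.n → stepsBlock D T b = true)
    {i g : ℕ} (hi : i < D.n) (hg : g < D.ng) :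
    gen g • phi D gen x₀ (liveAt D i) = phi D gen x₀ (liveAt D (tabAt T g i)) ∧ tabAt T g i < D.n := by
  have h := blocks_spec hs hi
  simp only [List.all_eq_true, List.mem_range] at h
  have hg' := h g hg
  cases hz : step D (D.rm - 1) g fuel (liveAt D i) with
  | none => rw [hz] at hg'; simp at hg'
  | some z =>
    rw [hz] at hg'
    simp only [Bool.and_eq_true, Nat.beq_eq, Nat.blt_eq] at hg'
    exact ⟨by rw [step_sound hB hg hz, ← hg'.1, root_sound hB], hg'.2⟩

theorem walk_tab (hB : Below D gen x₀ (D.rm - 1)) (hs : ∀ b, 250 * b < D.n → stepsBlock D T b = true) :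
    ∀ {w : List ℕ} {i : ℕ}, i < D.n → (∀ g ∈ w, g < D.ng) →
      act gen w • phi D gen x₀ (liveAt D i) = phi D gen x₀ (liveAt D (tabWalk T i w)) ∧ tabWalk T i w < D.n
  | [], i, hi, _ => ⟨by rw [act_nil, one_smul]; rfl, hi⟩
  | g :: w, i, hi, hw => by
    obtain ⟨e, h1⟩ := step_tab hB hs hi (hw g (by simp))
    obtain ⟨e2, h2⟩ := walk_tab hB hs (w := w) h1 (fun a ha => hw a (by simp [ha]))
    exact ⟨by rw [act_cons, mul_smul, e, e2]; rfl, h2⟩

theorem walk_expand (hB : Below D gen x₀ (D.rm - 1)) (hs : ∀ b, 250 * b < D.n → stepsBlock D T b = true)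
    (hx : ∀ b, 250 * b < D.n → extraBlock D T B b = true) (hBw : ∀ g ∈ B, g < D.ng) :
    ∀ {w : List ℕ} {i : ℕ}, i < D.n → (∀ g ∈ w, g ≤ D.ng) →
      act gen (expandW D.ng B w) • phi D gen x₀ (liveAt D i) = phi D gen x₀ (liveAt D (tabWalk T i w)) ∧
        tabWalk T i w < D.n
  | [], i, hi, _ => ⟨by simp [expandW, act_nil, tabWalk], hi⟩
  | g :: w, i, hi, hw => by
    have hstep : act gen (expandW D.ng B [g]) • phi D gen x₀ (liveAt D i) =
        phi D gen x₀ (liveAt D (tabAt T g i)) ∧ tabAt T g i < D.n := by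
      by_cases hg : g = D.ng
      · have h := blocks_spec hx hi
        simp only [Nat.beq_eq] at h
        rw [hg, h]
        simpa [expandW] using walk_tab hB hs (w := B) hi hBw
      · have hlt : g < D.ng := lt_of_le_of_ne (hw g (by simp)) hg
        simpa [expandW, hg, act_cons, act_nil] using step_tab hB hs hi hlt
    obtain ⟨e2, h2⟩ := walk_expand hB hs hx hBw (w := w) hstep.2 (fun a ha => hw a (by simp [ha]))
    refine ⟨?_, h2⟩
    have hsplit : expandW D.ng B (g :: w) = expandW D.ng B [g] ++ expandW D.ng B w := by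
      simp [expandW, List.flatMap_cons]
    rw [hsplit, act_append, mul_smul, hstep.1, e2]
    rfl

theorem fixes_orbit {S W : List (List ℕ)} (V : Paired.Closed D iv S)
    (H : Paired.PairHyp D iv gen x₀) (hs : ∀ b, 250 * b < D.n → stepsBlock D T b = true)
    (hx : ∀ b, 250 * b < D.n → extraBlock D T B b = true) (hBw : ∀ g ∈ B, g < D.ng)
    (hfix : ∀ b, 250 * b < D.n → fixesBlock D.n T W b = true)
    {w : List ℕ} (hw : w ∈ W) (hlt : ∀ g ∈ w, g ≤ D.ng) {m : M} (hm : m ∈ genGrp S gen) :
    act gen (expandW D.ng B w) • m • x₀ = m • x₀ := by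
  obtain ⟨j, hj, e⟩ := Paired.orbit_mem V H hm
  rw [e, (walk_expand (Paired.below_top V.toValid H) hs hx hBw hj hlt).1]
  have h := blocks_spec hfix hj
  simp only [List.all_eq_true, Nat.beq_eq] at h
  rw [h w hw]

end

end CfsgLib.ThType.Cert
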