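import Cfsg.Agent.Lib.ThType.Cert.GData
import Cfsg.Agent.Lib.ThType.Cert.TabData
import Cfsg.Agent.Lib.ThType.Cert.Sound

/-!
# Kernel checks of the relators with b
-/

set_option autoImplicit false
set_option maxRecDepth 100000

namespace CfsgLib.ThType.Cert

open CfsgLib.PresCert

theorem tab_fixes0 : fixesBlock certG.n actTab shortRels 0 = true := by decide +kernel

theorem tab_fixes1 : fixesBlock certG.n actTab shortRels 1 = true := by decide +kernel

theorem tab_fixes2 : fixesBlock certG.n actTab shortRels 2 = true := by decide +kernel

theorem tab_fixes3 : fixesBlock certG.n actTab shortRels 3 = true := by decide +kernel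

theorem tab_fixes4 : fixesBlock certG.n actTab shortRels 4 = true := by decide +kernel

theorem tab_fixes5 : fixesBlock certG.n actTab shortRels 5 = true := by decide +kernel

theorem tab_fixes6 : fixesBlock certG.n actTab shortRels 6 = true := by decide +kernel

theorem tab_fixes7 : fixesBlock certG.n actTab shortRels 7 = true := by decide +kernel

theorem tab_fixes8 : fixesBlock certG.n actTab shortRels 8 = true := by decide +kernel

theorem tab_fixes9 : fixesBlock certG.n actTab shortRels 9 = true := by decide +kernel

theorem tab_fixes10 : fixesBlock certG.n actTab shortRels 10 = true := by decide +kernel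

theorem tab_fixes11 : fixesBlock certG.n actTab shortRels 11 = true := by decide +kernel

theorem tab_fixes12 : fixesBlock certG.n actTab shortRels 12 = true := by decide +kernel

theorem tab_fixes13 : fixesBlock certG.n actTab shortRels 13 = true := by decide +kernel

theorem tab_fixes14 : fixesBlock certG.n actTab shortRels 14 = true := by decide +kernel

theorem tab_fixes15 : fixesBlock certG.n actTab shortRels 15 = true := by decide +kernel

theorem tab_fixes16 : fixesBlock certG.n actTab shortRels 16 = true := by decide +kernel

theorem tab_fixes17 : fixesBlock certG.n actTab shortRels 17 = true := by decide +kernel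

theorem tab_fixes18 : fixesBlock certG.n actTab shortRels 18 = true := by decide +kernel

theorem tab_fixes19 : fixesBlock certG.n actTab shortRels 19 = true := by decide +kernel

theorem tab_fixes20 : fixesBlock certG.n actTab shortRels 20 = true := by decide +kernel

theorem tab_fixes21 : fixesBlock certG.n actTab shortRels 21 = true := by decide +kernel

theorem tab_fixes22 : fixesBlock certG.n actTab shortRels 22 = true := by decide +kernel

theorem tab_fixes23 : fixesBlock certG.n actTab shortRels 23 = true := by decide +kernel

theorem tab_fixes24 : fixesBlock certG.n actTab shortRels 24 = true := by decide +kernel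

theorem tab_fixes25 : fixesBlock certG.n actTab shortRels 25 = true := by decide +kernel

theorem tab_fixes26 : fixesBlock certG.n actTab shortRels 26 = true := by decide +kernel

theorem tab_fixes27 : fixesBlock certG.n actTab shortRels 27 = true := by decide +kernel

theorem tab_fixes28 : fixesBlock certG.n actTab shortRels 28 = true := by decide +kernel

theorem tab_fixes29 : fixesBlock certG.n actTab shortRels 29 = true := by decide +kernel

theorem tab_fixes : ∀ b, 250 * b < certG.n → fixesBlock certG.n actTab shortRels b = true := by
  intro b hb
  have hN : certG.n = 7371 := rfl
  have : b < 30 := by omega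
  interval_cases b
  exact tab_fixes0
  exact tab_fixes1
  exact tab_fixes2
  exact tab_fixes3
  exact tab_fixes4
  exact tab_fixes5
  exact tab_fixes6
  exact tab_fixes7
  exact tab_fixes8
  exact tab_fixes9
  exact tab_fixes10
  exact tab_fixes11
  exact tab_fixes12
  exact tab_fixes13
  exact tab_fixes14
  exact tab_fixes15
  exact tab_fixes16
  exact tab_fixes17
  exact tab_fixes18
  exact tab_fixes19
  exact tab_fixes20
  exact tab_fixes21
  exact tab_fixes22
  exact tab_fixes23
  exact tab_fixes24
  exact tab_fixes25
  exact tab_fixes26
  exact tab_fixes27
  exact tab_fixes28
  exact tab_fixes29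

end CfsgLib.ThType.Cert
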