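import Cfsg.Agent.Lib.ThType.Cert.GData
import Cfsg.Agent.Lib.ThType.Cert.Sound

/-!
# Kernel checks of the enumeration of the cosets
-/

set_option autoImplicit false
set_option maxRecDepth 100000

namespace CfsgLib.ThType.Cert

open CfsgLib.PresCert

theorem certG_shape : shapeOk certG = true := by decide +kernel

theorem certG_block0 : Paired.block certG ivL 0 = true := by decide +kernel

theorem certG_block1 : Paired.block certG ivL 1 = true := by decide +kernel

theorem certG_block2 : Paired.block certG ivL 2 = true := by decide +kernel

theorem certG_block3 : Paired.block certG ivL 3 = true := by decide +kernel

theorem certG_block4 : Paired.block certG ivL 4 = true := by decide +kernel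

theorem certG_block5 : Paired.block certG ivL 5 = true := by decide +kernel

theorem certG_block6 : Paired.block certG ivL 6 = true := by decide +kernel

theorem certG_block7 : Paired.block certG ivL 7 = true := by decide +kernel

theorem certG_block8 : Paired.block certG ivL 8 = true := by decide +kernel

theorem certG_block9 : Paired.block certG ivL 9 = true := by decide +kernel

theorem certG_cl0 : closedBlock certG (letters certG) 0 = true := by decide +kernel

theorem certG_cl1 : closedBlock certG (letters certG) 1 = true := by decide +kernel

theorem certG_cl2 : closedBlock certG (letters certG) 2 = true := by decide +kernel

theorem certG_cl3 : closedBlock certG (letters certG) 3 = true := by decide +kernel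

theorem certG_cl4 : closedBlock certG (letters certG) 4 = true := by decide +kernel

theorem certG_cl5 : closedBlock certG (letters certG) 5 = true := by decide +kernel

theorem certG_cl6 : closedBlock certG (letters certG) 6 = true := by decide +kernel

theorem certG_cl7 : closedBlock certG (letters certG) 7 = true := by decide +kernel

theorem certG_closed : Paired.Closed certG ivL (letters certG) := by
  refine ⟨⟨certG_shape, fun b hb => ?_⟩, by decide +kernel, fun b hb => ?_⟩
  · have hN : certG.N = 9785 := rfl
    have : b < 10 := by omega
    interval_cases b
    exact certG_block0
    exact certG_block1
    exact certG_block2
    exact certG_block3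
    exact certG_block4
    exact certG_block5
    exact certG_block6
    exact certG_block7
    exact certG_block8
    exact certG_block9
  · have hN : certG.n = 7371 := rfl
    have : b < 8 := by omega
    interval_cases b
    exact certG_cl0
    exact certG_cl1
    exact certG_cl2
    exact certG_cl3
    exact certG_cl4
    exact certG_cl5
    exact certG_cl6
    exact certG_cl7

theorem certG_hints : Paired.hintsOk certG ivL certGRels certGHints = true := by decide +kernel

theorem certG_marks : Y555.marksOk certG subWords = true := by decide +kernel

end CfsgLib.ThType.Cert
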