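import Cfsg.Agent.Lib.ThType.Cert.GData
import Cfsg.Agent.Lib.ThType.Cert.TabData
import Cfsg.Agent.Lib.ThType.Cert.Sound

/-!
# Kernel checks of the action table
-/

set_option autoImplicit false
set_option maxRecDepth 100000

namespace CfsgLib.ThType.Cert

open CfsgLib.PresCert

theorem tab_steps0 : stepsBlock certG actTab 0 = true := by decide +kernel

theorem tab_steps1 : stepsBlock certG actTab 1 = true := by decide +kernel

theorem tab_steps2 : stepsBlock certG actTab 2 = true := by decide +kernel

theorem tab_steps3 : stepsBlock certG actTab 3 = true := by decide +kernel

theorem tab_steps4 : stepsBlock certG actTab 4 = true := by decide +kernel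

theorem tab_steps5 : stepsBlock certG actTab 5 = true := by decide +kernel

theorem tab_steps6 : stepsBlock certG actTab 6 = true := by decide +kernel

theorem tab_steps7 : stepsBlock certG actTab 7 = true := by decide +kernel

theorem tab_steps8 : stepsBlock certG actTab 8 = true := by decide +kernel

theorem tab_steps9 : stepsBlock certG actTab 9 = true := by decide +kernel

theorem tab_steps10 : stepsBlock certG actTab 10 = true := by decide +kernel

theorem tab_steps11 : stepsBlock certG actTab 11 = true := by decide +kernel

theorem tab_steps12 : stepsBlock certG actTab 12 = true := by decide +kernel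

theorem tab_steps13 : stepsBlock certG actTab 13 = true := by decide +kernel

theorem tab_steps14 : stepsBlock certG actTab 14 = true := by decide +kernel

theorem tab_steps15 : stepsBlock certG actTab 15 = true := by decide +kernel

theorem tab_steps16 : stepsBlock certG actTab 16 = true := by decide +kernel

theorem tab_steps17 : stepsBlock certG actTab 17 = true := by decide +kernel

theorem tab_steps18 : stepsBlock certG actTab 18 = true := by decide +kernel

theorem tab_steps19 : stepsBlock certG actTab 19 = true := by decide +kernel

theorem tab_steps20 : stepsBlock certG actTab 20 = true := by decide +kernel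

theorem tab_steps21 : stepsBlock certG actTab 21 = true := by decide +kernel

theorem tab_steps22 : stepsBlock certG actTab 22 = true := by decide +kernel

theorem tab_steps23 : stepsBlock certG actTab 23 = true := by decide +kernel

theorem tab_steps24 : stepsBlock certG actTab 24 = true := by decide +kernel

theorem tab_steps25 : stepsBlock certG actTab 25 = true := by decide +kernel

theorem tab_steps26 : stepsBlock certG actTab 26 = true := by decide +kernel

theorem tab_steps27 : stepsBlock certG actTab 27 = true := by decide +kernel

theorem tab_steps28 : stepsBlock certG actTab 28 = true := by decide +kernel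

theorem tab_steps29 : stepsBlock certG actTab 29 = true := by decide +kernel

theorem tab_steps : ∀ b, 250 * b < certG.n → stepsBlock certG actTab b = true := by
  intro b hb
  have hN : certG.n = 7371 := rfl
  have : b < 30 := by omega
  interval_cases b
  exact tab_steps0
  exact tab_steps1
  exact tab_steps2
  exact tab_steps3
  exact tab_steps4
  exact tab_steps5
  exact tab_steps6
  exact tab_steps7
  exact tab_steps8
  exact tab_steps9
  exact tab_steps10
  exact tab_steps11
  exact tab_steps12
  exact tab_steps13
  exact tab_steps14
  exact tab_steps15
  exact tab_steps16
  exact tab_steps17
  exact tab_steps18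
  exact tab_steps19
  exact tab_steps20
  exact tab_steps21
  exact tab_steps22
  exact tab_steps23
  exact tab_steps24
  exact tab_steps25
  exact tab_steps26
  exact tab_steps27
  exact tab_steps28
  exact tab_steps29

theorem tab_extra0 : extraBlock certG actTab (wordB.getD 0 []) 0 = true := by decide +kernel

theorem tab_extra1 : extraBlock certG actTab (wordB.getD 0 []) 1 = true := by decide +kernel

theorem tab_extra2 : extraBlock certG actTab (wordB.getD 0 []) 2 = true := by decide +kernel

theorem tab_extra3 : extraBlock certG actTab (wordB.getD 0 []) 3 = true := by decide +kernel

theorem tab_extra4 : extraBlock certG actTab (wordB.getD 0 []) 4 = true := by decide +kernel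

theorem tab_extra5 : extraBlock certG actTab (wordB.getD 0 []) 5 = true := by decide +kernel

theorem tab_extra6 : extraBlock certG actTab (wordB.getD 0 []) 6 = true := by decide +kernel

theorem tab_extra7 : extraBlock certG actTab (wordB.getD 0 []) 7 = true := by decide +kernel

theorem tab_extra8 : extraBlock certG actTab (wordB.getD 0 []) 8 = true := by decide +kernel

theorem tab_extra9 : extraBlock certG actTab (wordB.getD 0 []) 9 = true := by decide +kernel

theorem tab_extra10 : extraBlock certG actTab (wordB.getD 0 []) 10 = true := by decide +kernel

theorem tab_extra11 : extraBlock certG actTab (wordB.getD 0 []) 11 = true := by decide +kernel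

theorem tab_extra12 : extraBlock certG actTab (wordB.getD 0 []) 12 = true := by decide +kernel

theorem tab_extra13 : extraBlock certG actTab (wordB.getD 0 []) 13 = true := by decide +kernel

theorem tab_extra14 : extraBlock certG actTab (wordB.getD 0 []) 14 = true := by decide +kernel

theorem tab_extra15 : extraBlock certG actTab (wordB.getD 0 []) 15 = true := by decide +kernel

theorem tab_extra16 : extraBlock certG actTab (wordB.getD 0 []) 16 = true := by decide +kernel

theorem tab_extra17 : extraBlock certG actTab (wordB.getD 0 []) 17 = true := by decide +kernel

theorem tab_extra18 : extraBlock certG actTab (wordB.getD 0 []) 18 = true := by decide +kernel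

theorem tab_extra19 : extraBlock certG actTab (wordB.getD 0 []) 19 = true := by decide +kernel

theorem tab_extra20 : extraBlock certG actTab (wordB.getD 0 []) 20 = true := by decide +kernel

theorem tab_extra21 : extraBlock certG actTab (wordB.getD 0 []) 21 = true := by decide +kernel

theorem tab_extra22 : extraBlock certG actTab (wordB.getD 0 []) 22 = true := by decide +kernel

theorem tab_extra23 : extraBlock certG actTab (wordB.getD 0 []) 23 = true := by decide +kernel

theorem tab_extra24 : extraBlock certG actTab (wordB.getD 0 []) 24 = true := by decide +kernel

theorem tab_extra25 : extraBlock certG actTab (wordB.getD 0 []) 25 = true := by decide +kernel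

theorem tab_extra26 : extraBlock certG actTab (wordB.getD 0 []) 26 = true := by decide +kernel

theorem tab_extra27 : extraBlock certG actTab (wordB.getD 0 []) 27 = true := by decide +kernel

theorem tab_extra28 : extraBlock certG actTab (wordB.getD 0 []) 28 = true := by decide +kernel

theorem tab_extra29 : extraBlock certG actTab (wordB.getD 0 []) 29 = true := by decide +kernel

theorem tab_extra : ∀ b, 250 * b < certG.n → extraBlock certG actTab (wordB.getD 0 []) b = true := by
  intro b hb
  have hN : certG.n = 7371 := rfl
  have : b < 30 := by omega
  interval_cases b
  exact tab_extra0
  exact tab_extra1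
  exact tab_extra2
  exact tab_extra3
  exact tab_extra4
  exact tab_extra5
  exact tab_extra6
  exact tab_extra7
  exact tab_extra8
  exact tab_extra9
  exact tab_extra10
  exact tab_extra11
  exact tab_extra12
  exact tab_extra13
  exact tab_extra14
  exact tab_extra15
  exact tab_extra16
  exact tab_extra17
  exact tab_extra18
  exact tab_extra19
  exact tab_extra20
  exact tab_extra21
  exact tab_extra22
  exact tab_extra23
  exact tab_extra24
  exact tab_extra25
  exact tab_extra26
  exact tab_extra27
  exact tab_extra28
  exact tab_extra29

end CfsgLib.ThType.Cert
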